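import Cfsg.Agent.SL2Tori.Basic
import Mathlib.GroupTheory.Sylow

/-!
# The Sylow 2-subgroups of SL₂ in odd characteristic

For a torus `T` of order divisible by `4` with an inverting element `w`, the 2-part `Q` of `T`
together with `w` is a Sylow 2-subgroup.
-/

set_option autoImplicit false
set_option linter.unusedSectionVars false

namespace CfsgLib.SL2Tori

open Matrix CfsgLib.SL2Trace
open scoped MatrixGroups

variable {F : Type*} [Field F]

theorem eq_one_or_neg_one_of_sq (h2 : (2 : F) ≠ 0) {y : SL(2, F)} (h : y * y = 1) :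
    y = 1 ∨ y = -1 := by
  have hc := cayley y (tr y) rfl
  have h' : y.1 * y.1 = 1 := congrArg Subtype.val h
  rw [pow_two, h'] at hc
  have e : tr y • y.1 = (2 : F) • 1 := by
    linear_combination (norm := module) -hc
  have ht0 : tr y ≠ 0 := by
    intro h0
    rw [h0, zero_smul] at e
    have := congrFun (congrFun e 0) 0
    simp at this
    exact h2 this.symm
  have ey : y.1 = (2 / tr y) • 1 := by
    calc y.1 = (tr y)⁻¹ • (tr y • y.1) := by rw [inv_smul_smul₀ ht0]
      _ = _ := by rw [e, smul_smul, inv_mul_eq_div]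
  have hd : (2 / tr y) ^ 2 = 1 := by
    have := y.2
    rw [ey] at this
    simpa [Matrix.det_smul] using this
  rcases sq_eq_one_iff.1 hd with e' | e'
  · left
    apply Subtype.ext
    rw [ey, e', one_smul]
    rfl
  · right
    apply Subtype.ext
    rw [ey, e', neg_one_smul]
    simp

theorem trace_eq_zero_of_sq (h2 : (2 : F) ≠ 0) {X : SL(2, F)} (h : X.1 * X.1 = -1) : tr X = 0 := by
  have hc := cayley X (tr X) rfl
  rw [pow_two, h] at hc
  have e : tr X • X.1 = 0 := by
    linear_combination (norm := module) -hc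
  rcases smul_eq_zero.1 e with e | e
  · exact e
  · simp [tr, e]

/-- In a quaternion subgroup some element of SL₂ permutes the three cyclic subgroups of order 4. -/
theorem exists_triality (h2 : (2 : F) ≠ 0) {x w : SL(2, F)} (hx : x.1 * x.1 = -1) (hw : w.1 * w.1 = -1)
    (hxw : w.1 * x.1 = -(x.1 * w.1)) :
    ∃ h : SL(2, F), h * x = w * h ∧ h * w = x * w * h := by
  have hax : x.1.adjugate = -x.1 := by
    have := trace_eq_zero_of_sq h2 hx
    rw [tr, Matrix.trace_fin_two] at this
    rw [Matrix.adjugate_fin_two]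
    ext i j
    fin_cases i <;> fin_cases j <;> simp <;> linear_combination this
  have haw : w.1.adjugate = -w.1 := by
    have := trace_eq_zero_of_sq h2 hw
    rw [tr, Matrix.trace_fin_two] at this
    rw [Matrix.adjugate_fin_two]
    ext i j
    fin_cases i <;> fin_cases j <;> simp <;> linear_combination this
  have hadd : ∀ A B : Matrix (Fin 2) (Fin 2) F, (A + B).adjugate = A.adjugate + B.adjugate := by
    intro A B
    simp only [Matrix.adjugate_fin_two]
    ext i j
    fin_cases i <;> fin_cases j <;> simp <;> ring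
  set M : Matrix (Fin 2) (Fin 2) F := 1 + x.1 + w.1 + x.1 * w.1 with hM
  have e1 : x.1 * w.1 * x.1 = w.1 := by
    rw [mul_assoc, hxw, mul_neg, ← mul_assoc, hx, neg_one_mul, neg_neg]
  have e2 : w.1 * x.1 * w.1 = x.1 := by
    rw [hxw, neg_mul, mul_assoc, hw, mul_neg_one, neg_neg]
  have e3 : x.1 * w.1 * w.1 = -x.1 := by rw [mul_assoc, hw, mul_neg_one]
  have e4 : x.1 * w.1 * (x.1 * w.1) = -1 := by rw [← mul_assoc, e1, hw]
  have hMx : M * x.1 = w.1 * M := by
    simp only [hM, add_mul, mul_add, one_mul, mul_one, hx, hw, e1, ← mul_assoc, hxw]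
    simp only [neg_mul, e3, neg_neg]
    abel
  have hMw : M * w.1 = x.1 * w.1 * M := by
    simp only [hM, add_mul, mul_add, one_mul, mul_one, hw, e3, e4, e1]
    abel
  have hadj : M.adjugate = 1 - x.1 - w.1 - x.1 * w.1 := by
    rw [hM, hadd, hadd, hadd, Matrix.adjugate_one, hax, haw, Matrix.adjugate_mul_distrib, hax, haw,
      neg_mul_neg, hxw]
    abel
  have hdet : M.det = 4 := by
    have h := Matrix.mul_adjugate M
    rw [hadj] at h
    have e : M * (1 - x.1 - w.1 - x.1 * w.1) = (4 : F) • 1 := by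
      simp only [hM, mul_sub, add_mul, mul_one, one_mul, ← mul_assoc, hx, hw, hxw, neg_mul,
        e1, e3, neg_neg]
      module
    rw [e] at h
    have := congrFun (congrFun h 0) 0
    simpa using this.symm
  refine ⟨⟨(2 : F)⁻¹ • M, ?_⟩, Subtype.ext ?_, Subtype.ext ?_⟩
  · rw [Matrix.det_smul, hdet, Fintype.card_fin]
    field_simp
    norm_num
  · show (2 : F)⁻¹ • M * x.1 = w.1 * ((2 : F)⁻¹ • M)
    rw [smul_mul_assoc, mul_smul_comm, hMx]
  · show (2 : F)⁻¹ • M * w.1 = x.1 * w.1 * ((2 : F)⁻¹ • M)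
    rw [smul_mul_assoc, mul_smul_comm, hMw]

variable [Fintype F]

/-- Centraliser and normaliser of a Sylow 2-subgroup. -/
theorem sylow_two {g : SL(2, F)} (ht : tr g ^ 2 ≠ 4) (h2 : (2 : F) ≠ 0)
    (h4 : 4 ∣ Nat.card (Subgroup.centralizer ({g} : Set SL(2, F)))) (c : ℕ) (hcodd : ¬ 2 ∣ c)
    (hc : Nat.card SL(2, F) = Nat.card (Subgroup.centralizer ({g} : Set SL(2, F))) * 2 * c)
    (P : Sylow 2 SL(2, F)) :
    Subgroup.centralizer ((P : Subgroup SL(2, F)) : Set SL(2, F)) = Subgroup.center SL(2, F) ∧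
      (8 ∣ Nat.card (Subgroup.centralizer ({g} : Set SL(2, F))) →
        Subgroup.normalizer ((P : Subgroup SL(2, F)) : Set SL(2, F)) = (P : Subgroup SL(2, F))) ∧
      (¬ 8 ∣ Nat.card (Subgroup.centralizer ({g} : Set SL(2, F))) →
        Nat.card (Subgroup.normalizer ((P : Subgroup SL(2, F)) : Set SL(2, F))) =
          3 * Nat.card P) := by
  classical
  set T := Subgroup.centralizer ({g} : Set SL(2, F)) with hT
  have hns := nonScalar_of_sq_ne_four ht
  obtain ⟨w, hw⟩ := exists_inverting ht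
  have hwT : w ∉ T := fun h => inv_ne_self ht (by
    rw [← hw, Subgroup.mem_centralizer_singleton_iff.1 h, mul_inv_cancel_right])
  have hwN : w ∈ Subgroup.normalizer (T : Set SL(2, F)) := (mem_normalizer_iff ht).2 (Or.inr hw)
  have hw2 : w * w = -1 := Subtype.ext (by simpa using sq_eq_neg_one ht h2 hwN hwT)
  -- the 2-part of the torus
  obtain ⟨Q₀⟩ : Nonempty (Sylow 2 T) := inferInstance
  set Q : Subgroup SL(2, F) := (Q₀ : Subgroup T).map T.subtype with hQdef
  have hQT : Q ≤ T := Subgroup.map_subtype_le _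
  obtain ⟨a, ha, hQcard⟩ : ∃ a, a = (Nat.card T).factorization 2 ∧ Nat.card Q = 2 ^ a :=
    ⟨_, rfl, by rw [hQdef, Subgroup.card_map_of_injective T.subtype_injective,
      Q₀.card_eq_multiplicity]⟩
  have ha2 : 2 ≤ a := by
    rw [ha, ← Nat.prime_two.pow_dvd_iff_le_factorization Nat.card_pos.ne']
    exact h4
  have hmemQ : ∀ t ∈ T, ∀ m : ℕ, t ^ 2 ^ m = 1 → t ∈ Q := by
    intro t htT m hm
    haveI : (Q₀ : Subgroup T).Normal := ⟨fun q hq r => by
      rwa [show r * q = q * r from Subtype.ext (centralizer_comm hns r.2 q.2), mul_inv_cancel_right]⟩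
    have hp : IsPGroup 2 (Subgroup.zpowers (⟨t, htT⟩ : T)) := by
      obtain ⟨j, -, hj⟩ := (Nat.dvd_prime_pow Nat.prime_two).1
        (orderOf_dvd_of_pow_eq_one (x := (⟨t, htT⟩ : T)) (n := 2 ^ m) (Subtype.ext hm))
      exact IsPGroup.of_card (n := j) (by rw [Nat.card_zpowers, hj])
    obtain ⟨R, hR⟩ := hp.exists_le_sylow
    haveI := Sylow.unique_of_normal Q₀ inferInstance
    have hmem : (⟨t, htT⟩ : T) ∈ (Q₀ : Subgroup T) := by
      rw [Subsingleton.elim Q₀ R]
      exact hR (Subgroup.mem_zpowers _)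
    exact Subgroup.mem_map.2 ⟨⟨t, htT⟩, hmem, rfl⟩
  have hneg : (-1 : SL(2, F)) ∈ Q :=
    hmemQ _ (Subgroup.center_le_centralizer _ neg_one_mem_center) 1 (by simp [pow_two])
  have hinv : ∀ q ∈ T, w * q * w⁻¹ = q⁻¹ := fun q hq => conj_eq_inv ht hw hq
  have hsw : ∀ q ∈ T, q * w = w * q⁻¹ := by
    intro q hq
    have := hinv q⁻¹ (inv_mem hq)
    rw [inv_inv, mul_inv_eq_iff_eq_mul] at this
    exact this.symm
  -- the Sylow subgroup
  have hcases : ∀ n : SL(2, F), (n ∈ Q ∨ w⁻¹ * n ∈ Q) → ∀ m : SL(2, F), (m ∈ Q ∨ w⁻¹ * m ∈ Q) →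
      (n * m ∈ Q ∨ w⁻¹ * (n * m) ∈ Q) := by
    intro n hn m hm
    rcases hn with hn | hn <;> rcases hm with hm | hm
    · exact Or.inl (mul_mem hn hm)
    · right
      have e : w⁻¹ * (n * m) = n⁻¹ * (w⁻¹ * m) := by
        rw [show n * m = n * w * (w⁻¹ * m) by group, hsw n (hQT hn)]
        group
      rw [e]
      exact mul_mem (inv_mem hn) hm
    · right
      rw [← mul_assoc]
      exact mul_mem hn hm
    · left
      have e : n * m = w * w * ((w⁻¹ * n)⁻¹ * (w⁻¹ * m)) := by
        rw [show n * m = w * ((w⁻¹ * n) * w) * (w⁻¹ * m) by group, hsw _ (hQT hn)]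
        group
      rw [e, hw2]
      exact mul_mem hneg (mul_mem (inv_mem hn) hm)
  let S₀ : Subgroup SL(2, F) :=
    { carrier := {n | n ∈ Q ∨ w⁻¹ * n ∈ Q}
      mul_mem' := fun {x y} hx hy => hcases x hx y hy
      one_mem' := Or.inl (one_mem Q)
      inv_mem' := fun {x} hx => by
        rcases hx with hx | hx
        · exact Or.inl (inv_mem hx)
        · right
          have e : w⁻¹ * x⁻¹ = (w⁻¹ * w⁻¹) * (w⁻¹ * x) := by
            rw [show x⁻¹ = (w⁻¹ * x)⁻¹ * w⁻¹ by group]
            have := hsw _ (hQT hx)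
            rw [show (w⁻¹ * x)⁻¹ * w⁻¹ = (w * (w⁻¹ * x))⁻¹ by group]
            rw [show w * (w⁻¹ * x) = (w⁻¹ * x)⁻¹ * w by rw [hsw _ (inv_mem (hQT hx)), inv_inv]]
            group
          rw [e, ← _root_.mul_inv_rev, hw2]
          exact mul_mem (inv_mem hneg) hx }
  have hwS : w ∈ S₀ := Or.inr (by rw [inv_mul_cancel]; exact one_mem Q)
  have hQS : Q ≤ S₀ := fun q hq => Or.inl hq
  have hwQ : ∀ q ∈ Q, w * q ∉ Q := fun q hq h => hwT (by
    simpa using mul_mem (hQT h) (inv_mem (hQT hq)))
  have hScard : Nat.card S₀ = 2 ^ (a + 1) := by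
    rw [pow_succ', two_mul, ← hQcard, ← Nat.card_sum]
    refine (Nat.card_congr (Equiv.ofBijective
      (Sum.elim (fun q : Q => (⟨q, hQS q.2⟩ : S₀)) (fun q : Q => ⟨w * q, mul_mem hwS (hQS q.2)⟩))
      ⟨?_, ?_⟩)).symm
    · rintro (u | u) (v | v) h <;> simp only [Sum.elim_inl, Sum.elim_inr, Subtype.mk.injEq] at h
      · rw [Subtype.ext h]
      · exact absurd (h ▸ u.2) (hwQ v v.2)
      · exact absurd (h.symm ▸ v.2) (hwQ u u.2)
      · rw [Subtype.ext (mul_left_cancel h)]
    · rintro ⟨n, hn | hn⟩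
      · exact ⟨.inl ⟨n, hn⟩, rfl⟩
      · exact ⟨.inr ⟨_, hn⟩, by simp⟩
  have hfac : (Nat.card SL(2, F)).factorization 2 = a + 1 := by
    have hc0 : c ≠ 0 := by rintro rfl; exact hcodd (dvd_zero _)
    rw [hc, Nat.factorization_mul (mul_ne_zero Nat.card_pos.ne' two_ne_zero) hc0,
      Nat.factorization_mul Nat.card_pos.ne' two_ne_zero, ha]
    simp [Nat.factorization_eq_zero_of_not_dvd hcodd, Nat.prime_two.factorization_self]
  obtain ⟨k, hk⟩ := MulAction.exists_smul_eq SL(2, F) (Sylow.ofCard S₀ (by rw [hScard, hfac])) P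
  have hP : (P : Subgroup SL(2, F)) = S₀.map (MulAut.conj k).toMonoidHom := by
    rw [← hk, Sylow.coe_subgroup_smul]
    rfl
  have hinj : Function.Injective (MulAut.conj k).toMonoidHom := (MulAut.conj k).injective
  -- an element of order 4 in Q
  haveI hcyc : IsCyclic Q := by
    haveI := isCyclic_centralizer ht
    exact (Subgroup.equivMapOfInjective (Q₀ : Subgroup T) _ T.subtype_injective).isCyclic.1
      inferInstance
  obtain ⟨⟨z, hzQ⟩, hz⟩ := IsCyclic.exists_ofOrder_eq_natCard (α := Q)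
  rw [Subgroup.orderOf_mk, hQcard] at hz
  obtain ⟨x, hxdef⟩ : ∃ x, x = z ^ 2 ^ (a - 2) := ⟨_, rfl⟩
  have hxQ : x ∈ Q := hxdef ▸ pow_mem hzQ _
  have hxo : orderOf x = 4 := by
    rw [hxdef, orderOf_pow_of_dvd (by positivity) (hz.symm ▸ pow_dvd_pow 2 (Nat.sub_le a 2)), hz,
      Nat.pow_div (Nat.sub_le a 2) two_pos, show a - (a - 2) = 2 by omega]
    norm_num
  have hxne : x ≠ 1 ∧ x ≠ -1 := by
    constructor
    · intro e
      rw [e, orderOf_one] at hxo
      omega
    · intro e
      have := Nat.le_of_dvd two_pos (hxo ▸ orderOf_dvd_of_pow_eq_one (x := x) (n := 2)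
        (by rw [e]; simp [pow_two]))
      omega
  have hxx : x * x = -1 := by
    have h : x * x * (x * x) = 1 := by
      rw [show x * x * (x * x) = x ^ 4 by simp only [pow_succ, pow_zero, one_mul, mul_assoc]]
      exact hxo ▸ pow_orderOf_eq_one x
    rcases eq_one_or_neg_one_of_sq h2 h with e | e
    · rcases eq_one_or_neg_one_of_sq h2 e with e' | e'
      · exact absurd e' hxne.1
      · exact absurd e' hxne.2
    · exact e
  have hCx : Subgroup.centralizer ({x} : Set SL(2, F)) = T :=
    centralizer_eq_of_mem ht (hQT hxQ) (fun e => hxne.1 (Subtype.ext e))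
      (fun e => hxne.2 (Subtype.ext (by simpa using e)))
  -- the centraliser
  have hCS : Subgroup.centralizer (S₀ : Set SL(2, F)) = Subgroup.center SL(2, F) := by
    refine le_antisymm (fun n hn => ?_) (Subgroup.center_le_centralizer _)
    have hnT : n ∈ T := by
      rw [← hCx, Subgroup.mem_centralizer_singleton_iff]
      exact (hn x (hQS hxQ)).symm
    have h1 : n * n = 1 := by
      have := hinv n hnT
      rw [hn w hwS, mul_inv_cancel_right] at this
      nth_rw 1 [this]
      group
    exact (mem_center_iff_eq n).2 (eq_one_or_neg_one_of_sq h2 h1)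
  -- elements of the normaliser which fix the cyclic subgroup
  have hstab : ∀ n ∈ Subgroup.normalizer (S₀ : Set SL(2, F)), n * x * n⁻¹ ∈ Q → n ∈ S₀ := by
    intro n hn hnx
    have hnT : n ∈ Subgroup.normalizer (T : Set SL(2, F)) := by
      have hne : n * x * n⁻¹ ≠ 1 ∧ n * x * n⁻¹ ≠ -1 := by
        constructor
        · intro e; exact hxne.1 (conj_eq_one_iff.1 e)
        · intro e
          apply hxne.2
          rw [show x = n⁻¹ * (n * x * n⁻¹) * n by group, e]
          simp
      have hC := centralizer_eq_of_mem ht (hQT hnx) (fun e => hne.1 (Subtype.ext e))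
        (fun e => hne.2 (Subtype.ext (by simpa using e)))
      rw [Subgroup.mem_normalizer_iff]
      intro M
      conv_lhs => rw [← hCx, Subgroup.mem_centralizer_singleton_iff]
      conv_rhs => rw [hT, ← hC, Subgroup.mem_centralizer_singleton_iff]
      constructor
      · intro h
        calc n * M * n⁻¹ * (n * x * n⁻¹) = n * (M * x) * n⁻¹ := by group
          _ = n * (x * M) * n⁻¹ := by rw [h]
          _ = n * x * n⁻¹ * (n * M * n⁻¹) := by group
      · intro h
        calc M * x = n⁻¹ * (n * M * n⁻¹ * (n * x * n⁻¹)) * n := by group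
          _ = n⁻¹ * (n * x * n⁻¹ * (n * M * n⁻¹)) * n := by rw [h]
          _ = x * M := by group
    have key : ∀ t ∈ T, t ∈ Subgroup.normalizer (S₀ : Set SL(2, F)) → t ∈ S₀ := by
      intro t htT htn
      have h := (Subgroup.mem_normalizer_iff.1 htn w).1 hwS
      rw [hsw t htT, mul_assoc] at h
      rcases h with h | h
      · exact absurd (by simpa [mul_assoc] using mul_mem (hQT h) (mul_mem htT htT)) hwT
      · have ht2 : t⁻¹ * t⁻¹ ∈ Q := by simpa [mul_assoc] using h
        have := inv_mem ht2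
        simp only [_root_.mul_inv_rev, inv_inv] at this
        refine hQS (hmemQ t htT (a + 1) ?_)
        rw [pow_succ', pow_mul, pow_two]
        have h' := pow_card_eq_one' (x := (⟨t * t, this⟩ : Q))
        rw [hQcard] at h'
        simpa using congrArg Subtype.val h'
    rcases (mem_normalizer_iff ht).1 hnT with e | e
    · exact key n (Subgroup.mem_centralizer_singleton_iff.2
        (by rwa [mul_inv_eq_iff_eq_mul] at e)) hn
    · have hT' : w⁻¹ * n ∈ T := by
        rw [Subgroup.mem_centralizer_singleton_iff, ← mul_inv_eq_iff_eq_mul]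
        calc w⁻¹ * n * g * (w⁻¹ * n)⁻¹ = w⁻¹ * (n * g * n⁻¹) * w := by group
          _ = g := by rw [e, ← hw]; group
      have := key _ hT' (mul_mem (inv_mem (Subgroup.le_normalizer hwS)) hn)
      simpa using mul_mem hwS this
  -- elements outside Q square to -1
  have hout : ∀ q ∈ Q, (w * q) * (w * q) = -1 := by
    intro q hq
    rw [show w * q * (w * q) = w * (q * w) * q by group, hsw q (hQT hq),
      show w * (w * q⁻¹) * q = w * w by group, hw2]
  refine ⟨?_, fun h8 => ?_, fun h8 => ?_⟩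
  · rw [hP]
    ext M
    rw [← hCS]
    have hz : ∀ {M : SL(2, F)}, M ∈ Subgroup.center SL(2, F) →
        k⁻¹ * M * k = M := fun h => by
      rw [mul_assoc, ← Subgroup.mem_center_iff.1 h k, inv_mul_cancel_left]
    constructor
    · intro h
      have : k⁻¹ * M * k ∈ Subgroup.centralizer (S₀ : Set SL(2, F)) := by
        intro s hs
        have h' := h (k * s * k⁻¹) ⟨s, hs, rfl⟩
        calc s * (k⁻¹ * M * k) = k⁻¹ * (k * s * k⁻¹ * M) * k := by group
          _ = k⁻¹ * (M * (k * s * k⁻¹)) * k := by rw [h']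
          _ = k⁻¹ * M * k * s := by group
      rw [hCS] at this
      rw [hCS]
      have e : M = k⁻¹ * M * k := by
        conv_lhs => rw [show M = k * (k⁻¹ * M * k) * k⁻¹ by group,
          Subgroup.mem_center_iff.1 this k, mul_inv_cancel_right]
      rwa [e]
    · intro h
      rw [hCS] at h
      exact Subgroup.center_le_centralizer _ h
  · rw [hP, ← Subgroup.map_normalizer_eq_of_bijective _ (MulAut.conj k).bijective]
    congr 1
    refine le_antisymm (fun n hn => ?_) Subgroup.le_normalizer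
    refine hstab n hn ?_
    have ha3 : 3 ≤ a := by
      rw [ha, ← Nat.prime_two.pow_dvd_iff_le_factorization Nat.card_pos.ne']
      exact h8
    have hnz : n * z * n⁻¹ ∈ Q := by
      rcases (Subgroup.mem_normalizer_iff.1 hn z).1 (hQS hzQ) with h | h
      · exact h
      · exfalso
        have h' := hout _ h
        rw [mul_inv_cancel_left] at h'
        have h4' : (n * z * n⁻¹) ^ 4 = 1 := by
          rw [show (4 : ℕ) = 2 + 2 from rfl, pow_add, pow_two, h']
          simp
        rw [conj_pow, conj_eq_one_iff] at h4'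
        have h8' := Nat.le_of_dvd (by norm_num) (orderOf_dvd_of_pow_eq_one h4')
        rw [hz] at h8'
        have : 2 ^ 3 ≤ 2 ^ a := Nat.pow_le_pow_right two_pos ha3
        omega
    rw [hxdef, ← conj_pow]
    exact pow_mem hnz _
  · have ha' : a = 2 := by
      by_contra h
      apply h8
      have h3 : 2 ^ 3 ∣ Nat.card T :=
        (Nat.prime_two.pow_dvd_iff_le_factorization Nat.card_pos.ne').2 (by omega)
      simpa using h3
    subst ha'
    have hQlist : ∀ q ∈ Q, q = 1 ∨ q = -1 ∨ q = x ∨ q = x⁻¹ := by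
      intro q hq
      have hzx : z = x := by rw [hxdef]; simp
      have hmem : (⟨q, hq⟩ : Q) ∈ Subgroup.zpowers (⟨x, hxQ⟩ : Q) := by
        have : Subgroup.zpowers (⟨x, hxQ⟩ : Q) = ⊤ := by
          apply Subgroup.eq_top_of_card_eq
          rw [Nat.card_zpowers, Subgroup.orderOf_mk, hxo, hQcard]
          norm_num
        rw [this]
        exact Subgroup.mem_top _
      rw [mem_zpowers_iff_mem_range_orderOf] at hmem
      simp only [Finset.mem_image, Finset.mem_range, Subgroup.orderOf_mk, hxo] at hmem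
      obtain ⟨i, hi, e⟩ := hmem
      have e' : x ^ i = q := congrArg Subtype.val e
      subst e'
      interval_cases i
      · exact Or.inl (pow_zero x)
      · exact Or.inr (Or.inr (Or.inl (pow_one x)))
      · exact Or.inr (Or.inl (by rw [pow_two, hxx]))
      · refine Or.inr (Or.inr (Or.inr (eq_inv_of_mul_eq_one_left ?_)))
        rw [← pow_succ]
        have := pow_orderOf_eq_one x
        rwa [hxo] at this
    have hwx : w.1 * x.1 = -(x.1 * w.1) := by
      have e : w * x = -(x * w) := by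
        rw [hsw x (hQT hxQ), show x⁻¹ = -x by
          exact inv_eq_of_mul_eq_one_right (by rw [mul_neg, hxx, neg_neg]), mul_neg, neg_neg]
      simpa using congrArg Subtype.val e
    obtain ⟨h, hh1, hh2⟩ := exists_triality h2 (by simpa using congrArg Subtype.val hxx)
      (by simpa using congrArg Subtype.val hw2) hwx
    have hcx : h * x * h⁻¹ = w := by rw [hh1, mul_inv_cancel_right]
    have hcw : h * w * h⁻¹ = x * w := by rw [hh2, mul_inv_cancel_right]
    have hS : ∀ s : SL(2, F), s ∈ S₀ → ∃ u ∈ Q, s = u ∨ s = w * u := by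
      intro s hs
      rcases hs with hs | hs
      · exact ⟨s, hs, Or.inl rfl⟩
      · exact ⟨_, hs, Or.inr (by simp)⟩
    have hsend : ∀ s ∈ S₀, h * s * h⁻¹ ∈ S₀ := by
      intro s hs
      have hQimg : ∀ q ∈ Q, h * q * h⁻¹ ∈ S₀ := by
        intro q hq
        rcases hQlist q hq with rfl | rfl | rfl | rfl
        · simp
        · simpa using hQS hneg
        · rw [hcx]; exact hwS
        · rw [show h * x⁻¹ * h⁻¹ = (h * x * h⁻¹)⁻¹ by group, hcx]; exact inv_mem hwS
      obtain ⟨u, hu, rfl | rfl⟩ := hS s hs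
      · exact hQimg _ hu
      · rw [show h * (w * u) * h⁻¹ = (h * w * h⁻¹) * (h * u * h⁻¹) by group, hcw]
        exact mul_mem (mul_mem (hQS hxQ) hwS) (hQimg u hu)
    have hhN : h ∈ Subgroup.normalizer (S₀ : Set SL(2, F)) :=
      Subgroup.mem_normalizer_iff_map_conj_eq.2 (Subgroup.eq_of_le_of_card_ge
        (by rintro _ ⟨s, hs, rfl⟩; exact hsend s hs)
        (Subgroup.card_map_of_injective (MulAut.conj h).injective).ge)
    have hxwQ : x * w ∉ Q := fun e => hwT (by simpa using mul_mem (inv_mem (hQT hxQ)) (hQT e))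
    have hwnQ : w ∉ Q := fun e => hwT (hQT e)
    let f : Fin 3 × S₀ → Subgroup.normalizer (S₀ : Set SL(2, F)) := fun p =>
      ⟨h ^ (p.1 : ℕ) * p.2, mul_mem (pow_mem hhN _) (Subgroup.le_normalizer p.2.2)⟩
    have hQnorm : ∀ s ∈ S₀, ∀ q ∈ Q, s * q * s⁻¹ ∈ Q := by
      intro s hs q hq
      obtain ⟨u, hu, rfl | rfl⟩ := hS s hs
      · exact mul_mem (mul_mem hu hq) (inv_mem hu)
      · rw [show w * u * q * (w * u)⁻¹ = w * (u * q * u⁻¹) * w⁻¹ by group,
          hinv _ (mul_mem (mul_mem (hQT hu) (hQT hq)) (inv_mem (hQT hu)))]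
        exact inv_mem (mul_mem (mul_mem hu hq) (inv_mem hu))
    have hh2x : h ^ 2 * x * (h ^ 2)⁻¹ = x * w := by
      rw [show h ^ 2 * x * (h ^ 2)⁻¹ = h * (h * x * h⁻¹) * h⁻¹ by simp [pow_two, mul_assoc], hcx, hcw]
    have hnot : ∀ d : ℕ, d = 1 ∨ d = 2 → h ^ d ∉ S₀ := by
      intro d hd hmem
      have hq := hQnorm _ hmem x hxQ
      rcases hd with rfl | rfl
      · rw [pow_one, hcx] at hq
        exact hwnQ hq
      · rw [hh2x] at hq
        exact hxwQ hq
    have hbij : Function.Bijective f := by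
      constructor
      · rintro ⟨i, s⟩ ⟨j, s'⟩ e
        have e' : h ^ (i : ℕ) * (s : SL(2, F)) = h ^ (j : ℕ) * s' := congrArg Subtype.val e
        have hij : i = j := by
          rcases lt_trichotomy (i : ℕ) j with hl | hl | hl
          · exfalso
            refine hnot ((j : ℕ) - i) (by omega) ?_
            have e2 : h ^ ((j : ℕ) - i) = (s : SL(2, F)) * (s' : SL(2, F))⁻¹ := by
              rw [eq_mul_inv_iff_mul_eq, ← mul_left_cancel_iff (a := h ^ (i : ℕ)), ← mul_assoc,
                ← pow_add, Nat.add_sub_cancel' hl.le, e']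
            rw [e2]
            exact mul_mem s.2 (inv_mem s'.2)
          · exact Fin.ext hl
          · exfalso
            refine hnot ((i : ℕ) - j) (by omega) ?_
            have e2 : h ^ ((i : ℕ) - j) = (s' : SL(2, F)) * (s : SL(2, F))⁻¹ := by
              rw [eq_mul_inv_iff_mul_eq, ← mul_left_cancel_iff (a := h ^ (j : ℕ)), ← mul_assoc,
                ← pow_add, Nat.add_sub_cancel' hl.le, e']
            rw [e2]
            exact mul_mem s'.2 (inv_mem s.2)
        subst hij
        exact Prod.ext rfl (Subtype.ext (mul_left_cancel e'))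
      · rintro ⟨n, hn⟩
        have mkpre : ∀ d : Fin 3, (h ^ (d : ℕ))⁻¹ * n * x * ((h ^ (d : ℕ))⁻¹ * n)⁻¹ ∈ Q →
            ∃ p, f p = ⟨n, hn⟩ := fun d hd =>
          ⟨(d, ⟨_, hstab _ (mul_mem (inv_mem (pow_mem hhN _)) hn) hd⟩),
            Subtype.ext (mul_inv_cancel_left _ _)⟩
        obtain ⟨u, hu, e | e⟩ := hS _ ((Subgroup.mem_normalizer_iff.1 hn x).1 (hQS hxQ))
        · exact mkpre 0 (by simpa using e ▸ hu)
        · have hback1 : h⁻¹ * w * h = x := by rw [← hcx]; group
          have hback2 : (h ^ 2)⁻¹ * (x * w) * h ^ 2 = x := by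
            nth_rw 1 [← hh2x]
            group
          have hd1 : ∀ v : SL(2, F), n * x * n⁻¹ = v → h⁻¹ * v * h ∈ Q → ∃ p, f p = ⟨n, hn⟩ := by
            intro v hv hq
            refine mkpre 1 ?_
            rw [show ((1 : Fin 3) : ℕ) = 1 from rfl, pow_one,
              show h⁻¹ * n * x * (h⁻¹ * n)⁻¹ = h⁻¹ * (n * x * n⁻¹) * h by group, hv]
            exact hq
          have hd2 : ∀ v : SL(2, F), n * x * n⁻¹ = v → (h ^ 2)⁻¹ * v * h ^ 2 ∈ Q →
              ∃ p, f p = ⟨n, hn⟩ := by
            intro v hv hq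
            refine mkpre 2 ?_
            rw [show ((2 : Fin 3) : ℕ) = 2 from rfl,
              show (h ^ 2)⁻¹ * n * x * ((h ^ 2)⁻¹ * n)⁻¹ = (h ^ 2)⁻¹ * (n * x * n⁻¹) * h ^ 2 by
                group, hv]
            exact hq
          rcases hQlist u hu with hu' | hu' | hu' | hu' <;> rw [hu'] at e
          · exact hd1 w (by rw [e, mul_one]) (hback1 ▸ hxQ)
          · refine hd1 (w * -1) e ?_
            rw [show h⁻¹ * (w * -1) * h = h⁻¹ * w * h * -1 by simp, hback1]
            exact mul_mem hxQ hneg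
          · refine hd2 (w * x) e ?_
            have : w * x = x * w * -1 := Subtype.ext (by simpa using hwx)
            rw [this, show (h ^ 2)⁻¹ * (x * w * -1) * h ^ 2 = (h ^ 2)⁻¹ * (x * w) * h ^ 2 * -1 by simp,
              hback2]
            exact mul_mem hxQ hneg
          · refine hd2 (w * x⁻¹) e ?_
            rw [← hsw x (hQT hxQ), hback2]
            exact hxQ
    rw [hP, ← Subgroup.map_normalizer_eq_of_bijective _ (MulAut.conj k).bijective,
      Subgroup.card_map_of_injective hinj, Subgroup.card_map_of_injective hinj,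
      ← Nat.card_congr (Equiv.ofBijective f hbij), Nat.card_prod, Nat.card_fin]

end CfsgLib.SL2Tori
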