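import Mathlib.GroupTheory.GroupAction.Quotient
import Mathlib.Tactic
import Mathlib.GroupTheory.CommutingProbability
import Mathlib.GroupTheory.Subgroup.Center
import Mathlib.Algebra.BigOperators.Group.Finset.Piecewise

/-!
# Conjugacy classes of an abelian group extended by an inverting element
-/

set_option autoImplicit false

namespace CfsgLib.SL2Tori

/-- If `T` is abelian with exactly two elements of square `1` and `w` outside `T` inverts it, the
group `T ∪ wT` has `(|T| + 6) / 2` classes. -/
theorem card_conjClasses_inverting {G : Type*} [Group G] [Finite G] (T : Subgroup G) (w : G)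
    (hab : ∀ s ∈ T, ∀ t ∈ T, s * t = t * s) (hw : w ∉ T) (hcov : ∀ g, g ∈ T ∨ w⁻¹ * g ∈ T)
    (hinv : ∀ t ∈ T, w * t * w⁻¹ = t⁻¹) (h2 : Nat.card {t : T // t * t = 1} = 2) :
    Nat.card (ConjClasses G) = (Nat.card T + 6) / 2 := by
  classical
  haveI := Fintype.ofFinite G
  let e : T ⊕ T → G := Sum.elim (fun t => (t : G)) (fun t => w * t)
  have hnot : ∀ a b : T, (a : G) ≠ w * b := by
    intro a b h
    apply hw
    rw [show w = (a : G) * (b : G)⁻¹ by rw [h]; group]
    exact mul_mem a.2 (inv_mem b.2)
  have he : Function.Bijective e := by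
    constructor
    · rintro (a | a) (b | b) h <;> simp only [e, Sum.elim_inl, Sum.elim_inr] at h
      · rw [Subtype.ext h]
      · exact absurd h (hnot a b)
      · exact absurd h.symm (hnot b a)
      · rw [Subtype.ext (mul_left_cancel h)]
    · intro g
      rcases hcov g with h | h
      · exact ⟨.inl ⟨g, h⟩, rfl⟩
      · exact ⟨.inr ⟨_, h⟩, by simp [e]⟩
  have hswap : ∀ t : T, (t : G) * w = w * ((t⁻¹ : T) : G) := by
    intro t
    have h := hinv _ t⁻¹.2
    rw [Subgroup.coe_inv, inv_inv] at h
    rw [Subgroup.coe_inv]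
    calc (t : G) * w = (w * (t : G)⁻¹ * w⁻¹) * w := by rw [h]
      _ = w * (t : G)⁻¹ := by group
  have hw2 : ∀ a b : T, Commute (w * (a : G)) (w * (b : G)) ↔ a⁻¹ * b * (a⁻¹ * b) = 1 := by
    intro a b
    have key : ∀ x y : T, (w * (x : G)) * (w * (y : G)) = w * w * ((x⁻¹ * y : T) : G) := by
      intro x y
      rw [mul_assoc w (x : G), ← mul_assoc (x : G) w, hswap x]
      simp [mul_assoc]
    rw [commute_iff_eq, key, key, mul_right_inj, Subtype.coe_inj]
    constructor
    · intro h
      conv_lhs => arg 2; rw [h]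
      group
    · intro h
      rw [eq_inv_of_mul_eq_one_left h]
      group
  have h1 : ∀ a b : T, Commute (a : G) (w * (b : G)) ↔ a * a = 1 := by
    intro a b
    rw [commute_iff_eq, ← mul_assoc, hswap a, mul_assoc, mul_assoc, mul_right_inj,
      ← Subgroup.coe_mul, ← Subgroup.coe_mul, Subtype.coe_inj,
      show b * a = a * b from Subtype.ext (hab _ b.2 _ a.2), mul_left_inj]
    exact ⟨fun h => by conv_lhs => arg 1; rw [← h]
                       group,
      fun h => (eq_inv_of_mul_eq_one_left h).symm⟩
  have hinl : ∀ a : T, Nat.card {g : G // Commute (a : G) g} =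
      Nat.card T + if a * a = 1 then Nat.card T else 0 := by
    intro a
    rw [← Nat.card_congr ((Equiv.ofBijective e he).subtypeEquiv
      (p := fun x => Commute (a : G) (e x)) fun x => Iff.rfl), Nat.card_congr Equiv.subtypeSum,
      Nat.card_sum]
    congr 1
    · exact Nat.card_congr (Equiv.subtypeUnivEquiv fun t => hab _ a.2 _ t.2)
    · split_ifs with h
      · exact Nat.card_congr (Equiv.subtypeUnivEquiv fun t => (h1 a t).2 h)
      · have : IsEmpty {t : T // Commute (a : G) (e (Sum.inr t))} := ⟨fun t => h ((h1 a t).1 t.2)⟩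
        exact Nat.card_of_isEmpty
  have hinr : ∀ a : T, Nat.card {g : G // Commute (w * (a : G)) g} = 4 := by
    intro a
    rw [← Nat.card_congr ((Equiv.ofBijective e he).subtypeEquiv
      (p := fun x => Commute (w * (a : G)) (e x)) fun x => Iff.rfl), Nat.card_congr Equiv.subtypeSum,
      Nat.card_sum]
    have c1 : Nat.card {t : T // Commute (w * (a : G)) (e (Sum.inl t))} = 2 := by
      rw [← h2]
      exact Nat.card_congr (Equiv.subtypeEquivRight fun t =>
        ⟨fun h => (h1 t a).1 h.symm, fun h => ((h1 t a).2 h).symm⟩)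
    have c2 : Nat.card {t : T // Commute (w * (a : G)) (e (Sum.inr t))} = 2 := by
      rw [← h2]
      exact Nat.card_congr ((Equiv.mulLeft a⁻¹).subtypeEquiv fun t => hw2 a t)
    rw [c1, c2]
  have key := card_comm_eq_card_conjClasses_mul_card G
  have hG : Nat.card G = 2 * Nat.card T := by
    rw [← Nat.card_congr (Equiv.ofBijective e he), Nat.card_sum, two_mul]
  let s : {p : G × G // Commute p.1 p.2} ≃ Σ a : G, {b : G // Commute a b} :=
    { toFun := fun z => ⟨z.1.1, z.1.2, z.2⟩
      invFun := fun w => ⟨(w.1, w.2.1), w.2.2⟩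
      left_inv := fun _ => rfl
      right_inv := fun _ => rfl }
  rw [Nat.card_congr s, Nat.card_sigma,
    ← (Equiv.ofBijective e he).sum_comp, Fintype.sum_sum_type] at key
  simp only [Equiv.ofBijective_apply, e, Sum.elim_inl, Sum.elim_inr, hinl, hinr,
    Finset.sum_add_distrib, Finset.sum_const, Finset.card_univ, smul_eq_mul,
    ← Finset.sum_filter] at key
  rw [hG, ← Fintype.card_subtype, ← Nat.card_eq_fintype_card, ← Nat.card_eq_fintype_card, h2]
    at key
  have hpos : 0 < Nat.card T := Nat.card_pos
  have hk : Nat.card T + 6 = 2 * Nat.card (ConjClasses G) :=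
    Nat.eq_of_mul_eq_mul_left hpos (by linear_combination key)
  omega

end CfsgLib.SL2Tori
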