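import Cfsg.Agent.SL2Trace.Basic
import Cfsg.Agent.SL2Trace.Order
import Cfsg.Agent.SL2Tori.Dihedral
import Mathlib.FieldTheory.IsAlgClosed.AlgebraicClosure
import Mathlib.NumberTheory.LegendreSymbol.QuadraticChar.Basic
import Mathlib.RingTheory.IntegralDomain

/-!
# Tori of SL₂

For a non-scalar `g` of trace `t` with `t² ≠ 4` the centraliser is `{x + y g : x² + txy + y² = 1}`,
a cyclic group of order `q + 1 - r`, where `r` is the number of roots of `m² + tm + 1`.
-/

set_option autoImplicit false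
set_option linter.unusedSectionVars false

namespace CfsgLib.SL2Tori

open Matrix CfsgLib.SL2Trace
open scoped MatrixGroups

variable {F : Type*} [Field F]

/-- The trace. -/
abbrev tr (g : SL(2, F)) : F := Matrix.trace (g : Matrix (Fin 2) (Fin 2) F)

theorem coeff_unique {g : SL(2, F)} (hg : SL2Trace.NonScalar (g : Matrix (Fin 2) (Fin 2) F)) {x y x' y' : F}
    (h : x • (1 : Matrix (Fin 2) (Fin 2) F) + y • g.1 = x' • 1 + y' • g.1) : x = x' ∧ y = y' := by
  have h00 := congrFun (congrFun h 0) 0
  have h01 := congrFun (congrFun h 0) 1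
  have h10 := congrFun (congrFun h 1) 0
  have h11 := congrFun (congrFun h 1) 1
  simp at h00 h01 h10 h11
  have hy : y = y' := by
    by_contra hne
    have hne' : y - y' ≠ 0 := sub_ne_zero.2 hne
    rcases hg with h' | h' | h'
    · rcases h01 with h01 | h01
      · exact hne h01
      · exact h' h01
    · rcases h10 with h10 | h10
      · exact hne h10
      · exact h' h10
    · exact h' (mul_left_cancel₀ hne' (by linear_combination h00 - h11))
  subst hy
  exact ⟨by linear_combination h00, rfl⟩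

theorem commute_exists {g : SL(2, F)} (hg : SL2Trace.NonScalar (g : Matrix (Fin 2) (Fin 2) F))
    {M : Matrix (Fin 2) (Fin 2) F} (h : g.1 * M = M * g.1) :
    ∃ x y : F, M = x • 1 + y • g.1 := by
  have h00 := congrFun (congrFun h 0) 0
  have h01 := congrFun (congrFun h 0) 1
  have h10 := congrFun (congrFun h 1) 0
  simp [Matrix.mul_apply, Fin.sum_univ_two] at h00 h01 h10
  have key : ∀ y : F, M 0 1 = y * g 0 1 → M 1 0 = y * g 1 0 →
      M 1 1 - M 0 0 = y * (g 1 1 - g 0 0) → ∃ x y : F, M = x • 1 + y • g.1 := by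
    intro y e1 e2 e3
    refine ⟨M 0 0 - y * g 0 0, y, ?_⟩
    ext i j
    fin_cases i <;> fin_cases j <;> simp
    · exact e1
    · exact e2
    · linear_combination e3
  rcases hg with h' | h' | h'
  · refine key (M 0 1 / g 0 1) (div_mul_cancel₀ _ h').symm ?_ ?_ <;> field_simp
    · linear_combination h00
    · linear_combination h01
  · refine key (M 1 0 / g 1 0) ?_ (div_mul_cancel₀ _ h').symm ?_ <;> field_simp
    · linear_combination -h00
    · linear_combination -h10
  · have h'' : g 1 1 - g 0 0 ≠ 0 := sub_ne_zero.2 (Ne.symm h')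
    refine key ((M 1 1 - M 0 0) / (g 1 1 - g 0 0)) ?_ ?_ (div_mul_cancel₀ _ h'').symm <;> field_simp
    · linear_combination -h01
    · linear_combination h10

/-- Elements of the centraliser in coordinates. -/
theorem mem_centralizer_iff {g : SL(2, F)} (hg : SL2Trace.NonScalar (g : Matrix (Fin 2) (Fin 2) F))
    (M : SL(2, F)) :
    M ∈ Subgroup.centralizer ({g} : Set SL(2, F)) ↔ ∃ x y : F, M.1 = x • 1 + y • g.1 := by
  rw [Subgroup.mem_centralizer_singleton_iff]
  constructor
  · intro h
    exact commute_exists hg (congrArg Subtype.val h).symm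
  · rintro ⟨x, y, h⟩
    apply Subtype.ext
    rw [Matrix.SpecialLinearGroup.coe_mul, Matrix.SpecialLinearGroup.coe_mul, h]
    simp [add_mul, mul_add]

theorem centralizer_comm {g : SL(2, F)} (hg : SL2Trace.NonScalar (g : Matrix (Fin 2) (Fin 2) F))
    {M N : SL(2, F)} (hM : M ∈ Subgroup.centralizer ({g} : Set SL(2, F)))
    (hN : N ∈ Subgroup.centralizer ({g} : Set SL(2, F))) : M * N = N * M := by
  obtain ⟨x, y, hM⟩ := (mem_centralizer_iff hg M).1 hM
  obtain ⟨x', y', hN⟩ := (mem_centralizer_iff hg N).1 hN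
  apply Subtype.ext
  rw [Matrix.SpecialLinearGroup.coe_mul, Matrix.SpecialLinearGroup.coe_mul, hM, hN]
  simp [add_mul, mul_add, smul_smul, mul_comm]
  abel

theorem det_combination (g : SL(2, F)) (x y : F) :
    (x • (1 : Matrix (Fin 2) (Fin 2) F) + y • g.1).det = x ^ 2 + tr g * x * y + y ^ 2 := by
  have h := det_eq_one g
  rw [tr, Matrix.trace_fin_two, Matrix.det_fin_two]
  simp
  linear_combination (y ^ 2) * h

theorem combination_mul (g : SL(2, F)) (x y x' y' : F) :
    (x • (1 : Matrix (Fin 2) (Fin 2) F) + y • g.1) * (x' • 1 + y' • g.1) =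
      (x * x' - y * y') • 1 + (x * y' + x' * y + tr g * y * y') • g.1 := by
  have h := det_eq_one g
  ext i j
  rw [tr, Matrix.trace_fin_two]
  fin_cases i <;> fin_cases j <;> simp [Matrix.mul_apply, Fin.sum_univ_two] <;> grind

theorem coe_inv_eq (g : SL(2, F)) : (g⁻¹ : SL(2, F)).1 = tr g • 1 + (-1 : F) • g.1 := by
  rw [Matrix.SpecialLinearGroup.coe_inv, Matrix.adjugate_fin_two]
  ext i j
  fin_cases i <;> fin_cases j <;> simp [tr, Matrix.trace_fin_two]

theorem tr_inv (g : SL(2, F)) : tr g⁻¹ = tr g := by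
  rw [tr, coe_inv_eq]
  simp [tr, Matrix.trace_fin_two]
  ring

theorem nonScalar_of_sq_ne_four {g : SL(2, F)} (ht : tr g ^ 2 ≠ 4) :
    SL2Trace.NonScalar (g : Matrix (Fin 2) (Fin 2) F) := by
  by_contra h
  unfold SL2Trace.NonScalar at h
  push Not at h
  obtain ⟨h01, h10, he⟩ := h
  apply ht
  have hd := det_eq_one g
  rw [tr, Matrix.trace_fin_two]
  rw [← he] at hd ⊢
  rw [h01, h10] at hd
  linear_combination 4 * hd

/-- A conic point parametrisation gives the order of the centraliser. -/
theorem card_conic [Fintype F] [DecidableEq F] (t : F) (ht : t ^ 2 ≠ 4) :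
    Nat.card {p : F × F // p.1 ^ 2 + t * p.1 * p.2 + p.2 ^ 2 = 1} +
      (Finset.univ.filter fun m : F => m ^ 2 + t * m + 1 = 0).card = Fintype.card F + 1 := by
  classical
  let S := {p : F × F // p.1 ^ 2 + t * p.1 * p.2 + p.2 ^ 2 = 1}
  have one_line : ∀ p : F × F, p.1 ^ 2 + t * p.1 * p.2 + p.2 ^ 2 = 1 → p.1 = 1 →
      p = (1, 0) ∨ p = (1, -t) := by
    rintro ⟨x, y⟩ h (rfl : x = 1)
    have h' : y * (y + t) = 0 := by linear_combination h
    rcases mul_eq_zero.1 h' with h' | h'
    · left; rw [h']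
    · right; rw [eq_neg_of_add_eq_zero_left h']
  let P := {p : S // p.1.1 ≠ 1}
  let M := {m : F // m ^ 2 + t * m + 1 ≠ 0 ∧ t * m + 2 ≠ 0}
  have hPM : Nat.card P = Nat.card M := by
    have key : ∀ p : P, (p.1.1.2 / (p.1.1.1 - 1)) ^ 2 + t * (p.1.1.2 / (p.1.1.1 - 1)) + 1 =
        -(t * (p.1.1.2 / (p.1.1.1 - 1)) + 2) / (p.1.1.1 - 1) := by
      intro p
      have hp := p.1.2
      have hd : p.1.1.1 - 1 ≠ 0 := sub_ne_zero.2 p.2
      field_simp
      linear_combination hp
    refine Nat.card_congr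
      { toFun := fun p => ⟨p.1.1.2 / (p.1.1.1 - 1), ?_, ?_⟩
        invFun := fun m => ⟨⟨(1 - (t * m.1 + 2) / (m.1 ^ 2 + t * m.1 + 1),
          -(m.1 * ((t * m.1 + 2) / (m.1 ^ 2 + t * m.1 + 1)))), ?_⟩, ?_⟩
        left_inv := fun p => ?_
        right_inv := fun m => ?_ }
    · intro h0
      have h := key p
      rw [h0, eq_comm, div_eq_zero_iff, neg_eq_zero] at h
      have h2 := h.resolve_right (sub_ne_zero.2 p.2)
      apply ht
      linear_combination (t * (p.1.1.2 / (p.1.1.1 - 1)) + t ^ 2 - 2) * h2 - t ^ 2 * h0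
    · intro h2
      have h := key p
      rw [h2, neg_zero, zero_div] at h
      apply ht
      linear_combination (t * (p.1.1.2 / (p.1.1.1 - 1)) + t ^ 2 - 2) * h2 - t ^ 2 * h
    · have hs := div_mul_cancel₀ (t * m.1 + 2) m.2.1
      linear_combination ((t * m.1 + 2) / (m.1 ^ 2 + t * m.1 + 1)) * hs
    · intro h
      have h' : (t * m.1 + 2) / (m.1 ^ 2 + t * m.1 + 1) = 0 := by linear_combination -h
      rw [div_eq_zero_iff] at h'
      exact h'.elim m.2.2 m.2.1
    · obtain ⟨⟨⟨x, y⟩, hp⟩, hx⟩ := p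
      have hd : x - 1 ≠ 0 := sub_ne_zero.2 hx
      have hk := key ⟨⟨(x, y), hp⟩, hx⟩
      simp only at hk hp
      have hne : (y / (x - 1)) ^ 2 + t * (y / (x - 1)) + 1 ≠ 0 := by
        intro h0
        rw [h0, eq_comm, div_eq_zero_iff, neg_eq_zero] at hk
        apply ht
        linear_combination (t * (y / (x - 1)) + t ^ 2 - 2) * hk.resolve_right hd - t ^ 2 * h0
      have hq : (t * (y / (x - 1)) + 2) / ((y / (x - 1)) ^ 2 + t * (y / (x - 1)) + 1) = 1 - x := by
        rw [div_eq_iff hne, hk]
        field_simp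
        ring
      refine Subtype.ext (Subtype.ext (Prod.ext ?_ ?_)) <;> simp only [hq]
      · ring
      · field_simp
        ring
    · apply Subtype.ext
      simp only
      have hne : (t * m.1 + 2) / (m.1 ^ 2 + t * m.1 + 1) ≠ 0 := div_ne_zero m.2.2 m.2.1
      rw [sub_sub_cancel_left, neg_div_neg_eq, mul_div_cancel_right₀ _ hne]
  have hS : Nat.card S = Nat.card P + ({(1, 0), (1, -t)} : Finset (F × F)).card := by
    rw [← Nat.card_congr (Equiv.sumCompl fun p : S => p.1.1 ≠ 1), Nat.card_sum]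
    congr 1
    rw [← Nat.card_eq_finsetCard]
    refine Nat.card_congr
      { toFun := fun p => ⟨p.1.1, ?_⟩
        invFun := fun p => ⟨⟨p.1, ?_⟩, ?_⟩
        left_inv := fun _ => rfl
        right_inv := fun _ => rfl }
    · have := one_line _ p.1.2 (not_not.1 p.2)
      simpa using this
    · rcases (Finset.mem_insert.1 p.2).imp_right Finset.mem_singleton.1 with h | h <;> rw [h] <;> simp <;> ring
    · rcases (Finset.mem_insert.1 p.2).imp_right Finset.mem_singleton.1 with h | h <;> simp [h]
  have hM : Nat.card M + (Finset.univ.filter fun m : F => m ^ 2 + t * m + 1 = 0).card +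
      (Finset.univ.filter fun m : F => t * m + 2 = 0).card = Fintype.card F := by
    rw [Nat.card_eq_fintype_card, Fintype.card_subtype, add_assoc, ← Finset.card_union_of_disjoint,
      ← Finset.card_union_of_disjoint]
    · rw [← Finset.card_univ]
      congr 1
      ext m
      simp
      tauto
    · rw [Finset.disjoint_left]
      intro m h1 h2
      simp at h1 h2
      tauto
    · rw [Finset.disjoint_left]
      intro m h1 h2
      simp at h1 h2
      apply ht
      linear_combination (t * m + t ^ 2 - 2) * h2 - t ^ 2 * h1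
  show Nat.card S + _ = _
  rcases eq_or_ne t 0 with rfl | ht0
  · have h20 : (2 : F) ≠ 0 := fun h => ht (by linear_combination -(2 : F) * h)
    have e : (Finset.univ.filter fun m : F => (0 : F) * m + 2 = 0) = ∅ := by simp [h20]
    have hp2 : ({(1, 0), (1, -(0 : F))} : Finset (F × F)).card = 1 := by simp
    rw [hS, hPM, hp2]
    rw [e, Finset.card_empty] at hM
    omega
  · have e : (Finset.univ.filter fun m : F => t * m + 2 = 0) = {-2 / t} := by
      ext m
      simp [eq_div_iff ht0]
      constructor <;> intro h <;> linear_combination h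
    have hp2 : ({(1, 0), (1, -t)} : Finset (F × F)).card = 2 :=
      Finset.card_pair (by simpa using ht0)
    rw [hS, hPM, hp2]
    rw [e, Finset.card_singleton] at hM
    omega

variable {g : SL(2, F)} (ht : tr g ^ 2 ≠ 4)
include ht

theorem card_centralizer [Fintype F] [DecidableEq F] :
    Nat.card (Subgroup.centralizer ({g} : Set SL(2, F))) +
      (Finset.univ.filter fun m : F => m ^ 2 + tr g * m + 1 = 0).card = Fintype.card F + 1 := by
  rw [← card_conic _ ht]
  congr 1
  have hg := nonScalar_of_sq_ne_four ht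
  refine (Nat.card_congr (Equiv.ofBijective
    (fun p : {p : F × F // p.1 ^ 2 + tr g * p.1 * p.2 + p.2 ^ 2 = 1} =>
      (⟨⟨p.1.1 • 1 + p.1.2 • g.1, by rw [det_combination]; exact p.2⟩,
        (mem_centralizer_iff hg _).2 ⟨p.1.1, p.1.2, rfl⟩⟩ :
          Subgroup.centralizer ({g} : Set SL(2, F)))) ⟨?_, ?_⟩)).symm
  · intro p p' h
    obtain ⟨e1, e2⟩ := coeff_unique hg (congrArg (fun M => M.1.1) h)
    exact Subtype.ext (Prod.ext e1 e2)
  · intro M
    obtain ⟨x, y, h⟩ := (mem_centralizer_iff hg M.1).1 M.2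
    have hd : x ^ 2 + tr g * x * y + y ^ 2 = 1 := by
      rw [← det_combination, ← h]; exact M.1.2
    exact ⟨⟨(x, y), hd⟩, Subtype.ext (Subtype.ext h.symm)⟩

theorem card_centralizer_split [Fintype F] {l : F} (hl : l ^ 2 + tr g * l + 1 = 0) :
    Nat.card (Subgroup.centralizer ({g} : Set SL(2, F))) = Fintype.card F - 1 := by
  classical
  have h := card_centralizer ht
  have hne : l ≠ -tr g - l := by
    intro e
    apply ht
    linear_combination (2 * l + tr g) * e - 4 * hl
  have e : (Finset.univ.filter fun m : F => m ^ 2 + tr g * m + 1 = 0) = {l, -tr g - l} := by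
    ext m
    simp
    constructor
    · intro hm
      have : (m - l) * (m - (-tr g - l)) = 0 := by linear_combination hm - hl
      rcases mul_eq_zero.1 this with h' | h'
      · left; linear_combination h'
      · right; linear_combination h'
    · rintro (rfl | rfl)
      · exact hl
      · linear_combination hl
  rw [e, Finset.card_pair hne] at h
  omega

theorem card_centralizer_nonsplit [Fintype F] (hno : ∀ m : F, m ^ 2 + tr g * m + 1 ≠ 0) :
    Nat.card (Subgroup.centralizer ({g} : Set SL(2, F))) = Fintype.card F + 1 := by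
  classical
  have h := card_centralizer ht
  rwa [Finset.filter_eq_empty_iff.2 fun m _ => hno m, Finset.card_empty, add_zero] at h

/-- An embedding of the centraliser into the multiplicative monoid of a field, sending `g` to an
eigenvalue. -/
theorem exists_eigen_hom :
    ∃ (l : AlgebraicClosure F) (φ : Subgroup.centralizer ({g} : Set SL(2, F)) →* AlgebraicClosure F),
      Function.Injective φ ∧ l ^ 2 - algebraMap F _ (tr g) * l + 1 = 0 ∧
      ∀ (M : Subgroup.centralizer ({g} : Set SL(2, F))) (x y : F), M.1.1 = x • 1 + y • g.1 →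
        φ M = algebraMap F _ x + algebraMap F _ y * l := by
  have hg := nonScalar_of_sq_ne_four ht
  have hdeg : (Polynomial.X ^ 2 - Polynomial.C (algebraMap F (AlgebraicClosure F) (tr g)) *
      Polynomial.X + 1).degree = 2 := by compute_degree!
  obtain ⟨l, hl⟩ := IsAlgClosed.exists_root
    (Polynomial.X ^ 2 - Polynomial.C (algebraMap F (AlgebraicClosure F) (tr g)) * Polynomial.X + 1)
    (by rw [hdeg]; decide)
  simp [Polynomial.IsRoot] at hl
  have hex : ∀ M : Subgroup.centralizer ({g} : Set SL(2, F)), ∃ x y : F, M.1.1 = x • 1 + y • g.1 :=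
    fun M => (mem_centralizer_iff hg M.1).1 M.2
  choose X Y hXY using hex
  have uniq : ∀ (M : Subgroup.centralizer ({g} : Set SL(2, F))) (x y : F),
      M.1.1 = x • 1 + y • g.1 → X M = x ∧ Y M = y :=
    fun M x y h => coeff_unique hg ((hXY M).symm.trans h)
  let f : Subgroup.centralizer ({g} : Set SL(2, F)) → AlgebraicClosure F :=
    fun M => algebraMap F _ (X M) + algebraMap F _ (Y M) * l
  have hf : ∀ (M : Subgroup.centralizer ({g} : Set SL(2, F))) (x y : F),
      M.1.1 = x • 1 + y • g.1 → f M = algebraMap F _ x + algebraMap F _ y * l := by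
    intro M x y h
    obtain ⟨e1, e2⟩ := uniq M x y h
    simp only [f, e1, e2]
  refine ⟨l, { toFun := f, map_one' := ?_, map_mul' := ?_ }, ?_, hl, hf⟩
  · rw [hf 1 1 0 (by simp)]
    simp
  · intro M N
    rw [hf (M * N) _ _ (by
      show (M.1 * N.1 : SL(2, F)).1 = _
      rw [Matrix.SpecialLinearGroup.coe_mul, hXY M, hXY N, combination_mul])]
    simp only [f, map_sub, map_add, map_mul]
    linear_combination -(algebraMap F (AlgebraicClosure F) (Y M) *
      algebraMap F (AlgebraicClosure F) (Y N)) * hl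
  · intro M N h
    change f M = f N at h
    simp only [f] at h
    have hd : ∀ M : Subgroup.centralizer ({g} : Set SL(2, F)),
        algebraMap F (AlgebraicClosure F) (X M) ^ 2 + algebraMap F _ (tr g) * algebraMap F _ (X M) *
          algebraMap F _ (Y M) + algebraMap F _ (Y M) ^ 2 = 1 := by
      intro M
      have : (M.1.1).det = 1 := M.1.2
      rw [hXY M, det_combination] at this
      simpa using congrArg (algebraMap F (AlgebraicClosure F)) this
    set t' := algebraMap F (AlgebraicClosure F) (tr g)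
    set a := algebraMap F (AlgebraicClosure F) (X M)
    set b := algebraMap F (AlgebraicClosure F) (Y M)
    set c := algebraMap F (AlgebraicClosure F) (X N)
    set d := algebraMap F (AlgebraicClosure F) (Y N)
    have eM : (a + b * l) * (a + b * (t' - l)) = 1 := by linear_combination hd M - b ^ 2 * hl
    have eN : (c + d * l) * (c + d * (t' - l)) = 1 := by linear_combination hd N - d ^ 2 * hl
    rw [← h] at eN
    have h' : a + b * (t' - l) = c + d * (t' - l) :=
      mul_left_cancel₀ (left_ne_zero_of_mul_eq_one eM) (eM.trans eN.symm)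
    have hne : 2 * l - t' ≠ 0 := by
      intro e
      apply ht
      apply (algebraMap F (AlgebraicClosure F)).injective
      rw [map_pow, map_ofNat]
      linear_combination (2 * l - t') * e - 4 * hl
    have hb : b = d := mul_left_cancel₀ hne (by linear_combination h - h')
    have ha : a = c := by rw [hb] at h; linear_combination h
    have inj := (algebraMap F (AlgebraicClosure F)).injective
    apply Subtype.ext
    apply Subtype.ext
    rw [hXY M, hXY N, inj ha, inj hb]

theorem isCyclic_centralizer [Finite F] :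
    IsCyclic (Subgroup.centralizer ({g} : Set SL(2, F))) := by
  obtain ⟨l, φ, hφ, -⟩ := exists_eigen_hom ht
  letI : CommMonoid (Subgroup.centralizer ({g} : Set SL(2, F))) :=
    { (inferInstance : Group (Subgroup.centralizer ({g} : Set SL(2, F)))) with
      mul_comm := fun M N => Subtype.ext (centralizer_comm (nonScalar_of_sq_ne_four ht) M.2 N.2) }
  exact isCyclic_of_injective_ringHom φ hφ

theorem centralizer_eq_of_mem {M : SL(2, F)}
    (hM : M ∈ Subgroup.centralizer ({g} : Set SL(2, F))) (h1 : M.1 ≠ 1) (h2 : M.1 ≠ -1) :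
    Subgroup.centralizer ({M} : Set SL(2, F)) = Subgroup.centralizer ({g} : Set SL(2, F)) := by
  have hg := nonScalar_of_sq_ne_four ht
  obtain ⟨x, y, h⟩ := (mem_centralizer_iff hg M).1 hM
  have hy : y ≠ 0 := by
    rintro rfl
    have hd : M.1.det = 1 := M.2
    rw [h, det_combination] at hd
    rw [zero_smul, add_zero] at h
    rcases sq_eq_one_iff.1 (show x ^ 2 = 1 by linear_combination hd) with rfl | rfl
    · exact h1 (by rw [h, one_smul])
    · exact h2 (by rw [h, neg_one_smul])
  ext N
  constructor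
  · intro hN
    rw [Subgroup.mem_centralizer_singleton_iff] at hN ⊢
    apply Subtype.ext
    have h' := congrArg Subtype.val hN
    rw [Matrix.SpecialLinearGroup.coe_mul, Matrix.SpecialLinearGroup.coe_mul] at h' ⊢
    rw [h] at h'
    simp [mul_add, add_mul] at h'
    exact smul_right_injective _ hy h'
  · intro hN
    rw [Subgroup.mem_centralizer_singleton_iff]
    exact centralizer_comm hg hN hM

/-- A conjugate of `g` inside its centraliser is `g` or `g⁻¹`. -/
theorem eq_or_eq_inv_of_tr_eq {M : SL(2, F)}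
    (hM : M ∈ Subgroup.centralizer ({g} : Set SL(2, F))) (h : tr M = tr g) :
    M = g ∨ M = g⁻¹ := by
  obtain ⟨l, φ, hφ, hl, hf⟩ := exists_eigen_hom ht
  obtain ⟨x, y, hxy⟩ := (mem_centralizer_iff (nonScalar_of_sq_ne_four ht) M).1 hM
  have hgm : g ∈ Subgroup.centralizer ({g} : Set SL(2, F)) :=
    Subgroup.mem_centralizer_singleton_iff.2 rfl
  have hd : M.1.det = 1 := M.2
  rw [hxy, det_combination] at hd
  have hd' := congrArg (algebraMap F (AlgebraicClosure F)) hd
  simp only [map_add, map_mul, map_pow, map_one] at hd'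
  have hs : 2 * x + tr g * y = tr g := by
    conv_rhs => rw [← h]
    simp only [tr, hxy, Matrix.trace_add, Matrix.trace_smul, Matrix.trace_one, Fintype.card_fin,
      smul_eq_mul]
    push_cast
    ring
  have hs' := congrArg (algebraMap F (AlgebraicClosure F)) hs
  simp only [map_add, map_mul, map_ofNat] at hs'
  have eM := hf ⟨M, hM⟩ x y hxy
  have eg := hf ⟨g, hgm⟩ 0 1 (by simp)
  have ei := hf ⟨g⁻¹, inv_mem hgm⟩ (tr g) (-1) (coe_inv_eq g)
  simp only [map_zero, map_one, map_neg, zero_add, one_mul, neg_mul] at eg ei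
  set t' := algebraMap F (AlgebraicClosure F) (tr g)
  set a := algebraMap F (AlgebraicClosure F) x
  set b := algebraMap F (AlgebraicClosure F) y
  have key : (a + b * l - l) * (a + b * l - (t' - l)) = 0 := by
    linear_combination -hd' + (a + b * l) * hs' + (b ^ 2 - 1) * hl
  rcases mul_eq_zero.1 key with e | e
  · left
    have := hφ (a₁ := ⟨M, hM⟩) (a₂ := ⟨g, hgm⟩) (by rw [eM, eg]; linear_combination e)
    exact congrArg Subtype.val this
  · right
    have := hφ (a₁ := ⟨M, hM⟩) (a₂ := ⟨g⁻¹, inv_mem hgm⟩) (by rw [eM, ei]; linear_combination e)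
    exact congrArg Subtype.val this

theorem exists_inverting [Fintype F] : ∃ w : SL(2, F), w * g * w⁻¹ = g⁻¹ :=
  isConj_iff.1 (isConj_of_trace_eq g g⁻¹ (tr_inv g).symm ht)

theorem inv_ne_self : g⁻¹ ≠ g := by
  intro h
  obtain ⟨e, e'⟩ := coeff_unique (nonScalar_of_sq_ne_four ht)
    (show (tr g) • (1 : Matrix (Fin 2) (Fin 2) F) + (-1 : F) • g.1 = (0 : F) • 1 + (1 : F) • g.1 by
      rw [← coe_inv_eq, h]; simp)
  apply ht
  linear_combination (tr g) * e + 2 * e'

/-- An element inverting `g` inverts the whole torus. -/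
theorem conj_eq_inv {w : SL(2, F)} (hw : w * g * w⁻¹ = g⁻¹) {M : SL(2, F)}
    (hM : M ∈ Subgroup.centralizer ({g} : Set SL(2, F))) : w * M * w⁻¹ = M⁻¹ := by
  obtain ⟨x, y, h⟩ := (mem_centralizer_iff (nonScalar_of_sq_ne_four ht) M).1 hM
  have hd : M.1.det = 1 := M.2
  rw [h, det_combination] at hd
  have e : (w * M * w⁻¹).1 = x • 1 + y • (g⁻¹ : SL(2, F)).1 := by
    rw [← hw]
    simp only [Matrix.SpecialLinearGroup.coe_mul, h, mul_add, add_mul, mul_smul_comm, smul_mul_assoc,
      mul_one]
    rw [← Matrix.SpecialLinearGroup.coe_mul w w⁻¹, mul_inv_cancel, Matrix.SpecialLinearGroup.coe_one]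
  refine eq_inv_of_mul_eq_one_left (Subtype.ext ?_)
  rw [Matrix.SpecialLinearGroup.coe_mul, e, h, coe_inv_eq]
  rw [show x • (1 : Matrix (Fin 2) (Fin 2) F) + y • (tr g • 1 + (-1 : F) • g.1) =
    (x + y * tr g) • 1 + (-y) • g.1 by simp [smul_smul, add_smul]; abel, combination_mul,
    show (x + y * tr g) * x - -y * y = 1 by linear_combination hd,
    show (x + y * tr g) * y + x * -y + tr g * -y * y = 0 by ring]
  simp

theorem mem_normalizer_iff {n : SL(2, F)} :
    n ∈ Subgroup.normalizer ((Subgroup.centralizer ({g} : Set SL(2, F))) : Set SL(2, F)) ↔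
      n * g * n⁻¹ = g ∨ n * g * n⁻¹ = g⁻¹ := by
  constructor
  · intro hn
    refine eq_or_eq_inv_of_tr_eq ht ?_ ?_
    · exact (Subgroup.mem_normalizer_iff.1 hn g).1 (Subgroup.mem_centralizer_singleton_iff.2 rfl)
    · rw [tr, Matrix.SpecialLinearGroup.coe_mul, Matrix.SpecialLinearGroup.coe_mul, Matrix.trace_mul_cycle,
        ← Matrix.SpecialLinearGroup.coe_mul, inv_mul_cancel, Matrix.SpecialLinearGroup.coe_one, one_mul]
  · intro h
    have hmaps : ∀ n : SL(2, F), (n * g * n⁻¹ = g ∨ n * g * n⁻¹ = g⁻¹) →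
        ∀ M ∈ Subgroup.centralizer ({g} : Set SL(2, F)),
          n * M * n⁻¹ ∈ Subgroup.centralizer ({g} : Set SL(2, F)) := by
      intro n h M hM
      rcases h with h | h
      · have hn : n ∈ Subgroup.centralizer ({g} : Set SL(2, F)) :=
          Subgroup.mem_centralizer_singleton_iff.2 (by rwa [mul_inv_eq_iff_eq_mul] at h)
        exact mul_mem (mul_mem hn hM) (inv_mem hn)
      · rw [conj_eq_inv ht h hM]
        exact inv_mem hM
    rw [Subgroup.mem_normalizer_iff]
    intro M
    refine ⟨hmaps n h M, fun hM => ?_⟩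
    have h' : n⁻¹ * g * n⁻¹⁻¹ = g ∨ n⁻¹ * g * n⁻¹⁻¹ = g⁻¹ := by
      rcases h with h | h
      · left
        nth_rw 1 [← h]
        group
      · right
        rw [← inv_inv (n⁻¹ * g * n⁻¹⁻¹)]
        congr 1
        rw [show (n⁻¹ * g * n⁻¹⁻¹)⁻¹ = n⁻¹ * g⁻¹ * n⁻¹⁻¹ by group, ← h]
        group
    have := hmaps _ h' _ hM
    simpa [mul_assoc] using this

theorem conj_eq_inv_of_normalizer {n : SL(2, F)}
    (hn : n ∈ Subgroup.normalizer ((Subgroup.centralizer ({g} : Set SL(2, F))) : Set SL(2, F)))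
    (hn' : n ∉ Subgroup.centralizer ({g} : Set SL(2, F))) : n * g * n⁻¹ = g⁻¹ :=
  ((mem_normalizer_iff ht).1 hn).resolve_left fun h =>
    hn' (Subgroup.mem_centralizer_singleton_iff.2 (by rwa [mul_inv_eq_iff_eq_mul] at h))

theorem sq_eq_neg_one (h2 : (2 : F) ≠ 0) {n : SL(2, F)}
    (hn : n ∈ Subgroup.normalizer ((Subgroup.centralizer ({g} : Set SL(2, F))) : Set SL(2, F)))
    (hn' : n ∉ Subgroup.centralizer ({g} : Set SL(2, F))) : n.1 * n.1 = -1 := by
  have hinv := conj_eq_inv_of_normalizer ht hn hn'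
  have hm : n * n ∈ Subgroup.centralizer ({g} : Set SL(2, F)) := by
    rw [Subgroup.mem_centralizer_singleton_iff, ← mul_inv_eq_iff_eq_mul]
    calc n * n * g * (n * n)⁻¹ = n * (n * g * n⁻¹) * n⁻¹ := by group
      _ = (n * g * n⁻¹)⁻¹ := by
        rw [show (n * g * n⁻¹)⁻¹ = n * g⁻¹ * n⁻¹ by group, hinv]
      _ = g := by rw [hinv, inv_inv]
  obtain ⟨x, y, h⟩ := (mem_centralizer_iff (nonScalar_of_sq_ne_four ht) _).1 hm
  have h4 : n * n * (n * n) = 1 := by
    have := conj_eq_inv ht hinv hm
    rw [show n * (n * n) * n⁻¹ = n * n by group] at this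
    nth_rw 1 [this]
    group
  have hc := cayley n (tr n) rfl
  rw [pow_two] at hc
  have h' : n.1 * n.1 = tr n • n.1 - 1 := by
    linear_combination (norm := abel) hc
  rw [Matrix.SpecialLinearGroup.coe_mul, h'] at h
  have h4' := congrArg Subtype.val h4
  simp only [Matrix.SpecialLinearGroup.coe_mul, Matrix.SpecialLinearGroup.coe_one] at h4'
  by_cases ht0 : tr n = 0
  · rw [h', ht0, zero_smul, zero_sub]
  · exfalso
    apply hn'
    rw [mem_centralizer_iff (nonScalar_of_sq_ne_four ht)]
    refine ⟨(x + 1) / tr n, y / tr n, ?_⟩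
    have e : tr n • n.1 = (x + 1) • (1 : Matrix (Fin 2) (Fin 2) F) + y • g.1 := by
      linear_combination (norm := module) h
    calc n.1 = (tr n)⁻¹ • (tr n • n.1) := by rw [inv_smul_smul₀ ht0]
      _ = _ := by rw [e, smul_add, smul_smul, smul_smul]; congr 2 <;> ring

theorem card_normalizer [Fintype F] :
    Nat.card (Subgroup.normalizer ((Subgroup.centralizer ({g} : Set SL(2, F))) : Set SL(2, F))) =
      2 * Nat.card (Subgroup.centralizer ({g} : Set SL(2, F))) := by
  classical
  obtain ⟨w, hw⟩ := exists_inverting ht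
  set T := Subgroup.centralizer ({g} : Set SL(2, F)) with hT
  set N := Subgroup.normalizer (T : Set SL(2, F))
  have hTN : T ≤ N := Subgroup.le_normalizer
  have hwN : w ∈ N := (mem_normalizer_iff ht).2 (Or.inr hw)
  have hwT : w ∉ T := fun h => inv_ne_self ht (by
    rw [← hw, Subgroup.mem_centralizer_singleton_iff.1 h, mul_inv_cancel_right])
  rw [two_mul, ← Nat.card_sum]
  refine (Nat.card_congr (Equiv.ofBijective
    (Sum.elim (fun t : T => (⟨t, hTN t.2⟩ : N)) (fun t : T => ⟨w * t, mul_mem hwN (hTN t.2)⟩))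
    ⟨?_, ?_⟩)).symm
  · rintro (a | a) (b | b) h <;> simp only [Sum.elim_inl, Sum.elim_inr, Subtype.mk.injEq] at h
    · rw [Subtype.ext h]
    · exact absurd (by rw [show w = (a : SL(2, F)) * (b : SL(2, F))⁻¹ by rw [h]; group]
                       exact mul_mem a.2 (inv_mem b.2)) hwT
    · exact absurd (by rw [show w = (b : SL(2, F)) * (a : SL(2, F))⁻¹ by rw [← h]; group]
                       exact mul_mem b.2 (inv_mem a.2)) hwT
    · rw [Subtype.ext (mul_left_cancel h)]
  · rintro ⟨n, hn⟩
    rcases (mem_normalizer_iff ht).1 hn with h | h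
    · exact ⟨.inl ⟨n, Subgroup.mem_centralizer_singleton_iff.2
        (by rwa [mul_inv_eq_iff_eq_mul] at h)⟩, rfl⟩
    · refine ⟨.inr ⟨w⁻¹ * n, Subgroup.mem_centralizer_singleton_iff.2 ?_⟩, by simp⟩
      rw [← mul_inv_eq_iff_eq_mul]
      calc w⁻¹ * n * g * (w⁻¹ * n)⁻¹ = w⁻¹ * (n * g * n⁻¹) * w := by group
        _ = g := by rw [h, ← hw]; group

theorem card_sq_eq_one (h2 : (2 : F) ≠ 0) :
    Nat.card {t : Subgroup.centralizer ({g} : Set SL(2, F)) // t * t = 1} = 2 := by
  rw [Nat.card_eq_two_iff]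
  have hn : (-1 : SL(2, F)) ∈ Subgroup.centralizer ({g} : Set SL(2, F)) :=
    Subgroup.center_le_centralizer _ neg_one_mem_center
  refine ⟨⟨1, one_mul 1⟩, ⟨⟨-1, hn⟩, Subtype.ext (by simp)⟩, ?_, ?_⟩
  · intro h
    have := congrArg (fun t => t.1.1.1 0 0) h
    simp at this
    exact h2 (by linear_combination this)
  · obtain ⟨l, φ, hφ, -, hf⟩ := exists_eigen_hom ht
    rw [Set.eq_univ_iff_forall]
    rintro ⟨t, htt⟩
    have h1 : φ t * φ t = 1 := by rw [← map_mul, htt, map_one]
    rcases mul_self_eq_one_iff.1 h1 with h | h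
    · left
      exact Subtype.ext (hφ (h.trans (map_one φ).symm))
    · right
      refine Subtype.ext (hφ (h.trans ?_))
      rw [hf ⟨-1, hn⟩ (-1) 0 (by simp)]
      simp

theorem card_conjClasses_normalizer [Fintype F] (h2 : (2 : F) ≠ 0) :
    Nat.card (ConjClasses (Subgroup.normalizer
        ((Subgroup.centralizer ({g} : Set SL(2, F))) : Set SL(2, F)))) =
      (Nat.card (Subgroup.centralizer ({g} : Set SL(2, F))) + 6) / 2 := by
  classical
  obtain ⟨w, hw⟩ := exists_inverting ht
  set T := Subgroup.centralizer ({g} : Set SL(2, F)) with hT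
  set N := Subgroup.normalizer (T : Set SL(2, F))
  have hwN : w ∈ N := (mem_normalizer_iff ht).2 (Or.inr hw)
  have hwT : w ∉ T := fun h => inv_ne_self ht (by
    rw [← hw, Subgroup.mem_centralizer_singleton_iff.1 h, mul_inv_cancel_right])
  let e : T.subgroupOf N ≃* T := Subgroup.subgroupOfEquivOfLe Subgroup.le_normalizer
  rw [← Nat.card_congr e.toEquiv]
  refine card_conjClasses_inverting (T.subgroupOf N) ⟨w, hwN⟩ ?_ ?_ ?_ ?_ ?_
  · exact fun s hs t ht' => Subtype.ext (centralizer_comm (nonScalar_of_sq_ne_four ht) hs ht')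
  · exact hwT
  · intro n
    rcases (mem_normalizer_iff ht).1 n.2 with h | h
    · left
      exact Subgroup.mem_centralizer_singleton_iff.2 (by rwa [mul_inv_eq_iff_eq_mul] at h)
    · right
      show w⁻¹ * (n : SL(2, F)) ∈ T
      rw [Subgroup.mem_centralizer_singleton_iff, ← mul_inv_eq_iff_eq_mul]
      calc w⁻¹ * n * g * (w⁻¹ * n : SL(2, F))⁻¹ = w⁻¹ * (n * g * (n : SL(2, F))⁻¹) * w := by group
        _ = g := by rw [h, ← hw]; group
  · exact fun t ht' => Subtype.ext (conj_eq_inv ht hw ht')
  · refine (Nat.card_congr (e.toEquiv.subtypeEquiv fun t => ?_)).trans (card_sq_eq_one ht h2)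
    simp [← map_mul, map_eq_one_iff e e.injective]

omit ht in
/-- Some trace has no eigenvalue in a finite field. -/
theorem exists_no_root [Fintype F] : ∃ t : F, ∀ m : F, m ^ 2 + t * m + 1 ≠ 0 := by
  classical
  by_contra h
  push Not at h
  choose m hm using h
  have hne : ∀ t, m t ≠ 0 := fun t e => by
    have := hm t
    rw [e] at this
    simp at this
  have hinj : Function.Injective fun t => Units.mk0 (m t) (hne t) := by
    intro t t' e
    have e' : m t = m t' := congrArg Units.val e
    have h1 := hm t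
    have h2 := hm t'
    rw [e'] at h1
    exact mul_right_cancel₀ (hne t') (by linear_combination h1 - h2)
  have := Fintype.card_le_of_injective _ hinj
  rw [Fintype.card_units] at this
  have := Fintype.card_pos (α := F)
  omega

omit ht in
theorem sq_ne_four_of_no_root {t : F} (h : ∀ m : F, m ^ 2 + t * m + 1 ≠ 0) : t ^ 2 ≠ 4 := by
  intro e
  have : (t - 2) * (t + 2) = 0 := by linear_combination e
  rcases mul_eq_zero.1 this with e' | e'
  · exact h (-1) (by linear_combination -e')
  · exact h 1 (by linear_combination e')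

end CfsgLib.SL2Tori

namespace CfsgLib.SL2Tori

open Matrix CfsgLib.SL2Trace
open scoped MatrixGroups

variable {F : Type*} [Field F] [Fintype F]

theorem two_ne_zero_of_odd (hodd : Odd (Fintype.card F)) : (2 : F) ≠ 0 := by
  refine Ring.two_ne_zero fun h => ?_
  have := FiniteField.even_card_of_char_two h
  obtain ⟨k, hk⟩ := hodd
  omega

theorem exists_nonsplit :
    ∃ g : SL(2, F), tr g ^ 2 ≠ 4 ∧ ∀ m : F, m ^ 2 + tr g * m + 1 ≠ 0 := by
  obtain ⟨t, ht⟩ := exists_no_root (F := F)
  have e : tr (companion t) = t := by simp [tr, companion, Matrix.trace_fin_two]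
  exact ⟨companion t, by rw [e]; exact sq_ne_four_of_no_root ht, by rw [e]; exact ht⟩

theorem exists_split (h : 4 ≤ Fintype.card F) :
    ∃ g : SL(2, F), tr g ^ 2 ≠ 4 ∧ ∃ l : F, l ^ 2 + tr g * l + 1 = 0 := by
  classical
  have hex : ∃ a : F, a ∉ ({0, 1, -1} : Finset F) := by
    by_contra hcon
    push Not at hcon
    have := (Finset.card_le_card (fun a _ => hcon a : (Finset.univ : Finset F) ⊆ _)).trans
      Finset.card_le_three
    rw [Finset.card_univ] at this
    omega
  obtain ⟨a, ha⟩ := hex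
  simp at ha
  obtain ⟨ha0, ha1, ha2⟩ := ha
  have e : tr (companion (a + a⁻¹)) = a + a⁻¹ := by simp [tr, companion, Matrix.trace_fin_two]
  refine ⟨companion (a + a⁻¹), ?_, -a, ?_⟩ <;> rw [e]
  · intro h4
    field_simp at h4
    have hf : (a - 1) * (a - 1) * ((a + 1) * (a + 1)) = 0 := by linear_combination h4
    simp [mul_eq_zero, sub_eq_zero, add_eq_zero_iff_eq_neg, ha1, ha2] at hf
  · field_simp
    ring

omit [Fintype F] in
/-- An element without eigenvector has no eigenvalue. -/
theorem no_root_of_no_eigenvector {h : SL(2, F)}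
    (hh : ∀ (c : F) (v : Fin 2 → F), v ≠ 0 → h.1.mulVec v ≠ c • v) :
    ∀ m : F, m ^ 2 + tr h * m + 1 ≠ 0 := by
  intro m hm
  have hd := det_eq_one h
  have hdet : (h.1 - (-m) • 1).det = 0 := by
    rw [tr, Matrix.trace_fin_two] at hm
    simp [Matrix.det_fin_two]
    linear_combination hm + hd
  obtain ⟨v, hv, e⟩ := Matrix.exists_mulVec_eq_zero_iff.2 hdet
  apply hh (-m) v hv
  rwa [Matrix.sub_mulVec, Matrix.smul_mulVec, Matrix.one_mulVec, sub_eq_zero] at e

/-- Every element without eigenvalue is conjugate into a non-split torus. -/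
theorem exists_conj_mem (h2 : (2 : F) ≠ 0) {g h : SL(2, F)} (ht : tr g ^ 2 ≠ 4)
    (hg : ∀ m : F, m ^ 2 + tr g * m + 1 ≠ 0) (hh : ∀ m : F, m ^ 2 + tr h * m + 1 ≠ 0) :
    ∃ k : SL(2, F), k * h * k⁻¹ ∈ Subgroup.centralizer ({g} : Set SL(2, F)) := by
  classical
  have hchar : ringChar F ≠ 2 := fun h => h2 (by rw [← ringChar.Nat.cast_ringChar (R := F)]; simp [h])
  have nsq : ∀ t : F, (∀ m : F, m ^ 2 + t * m + 1 ≠ 0) → quadraticChar F (t ^ 2 - 4) = -1 := by
    intro t ht'
    rw [quadraticChar_neg_one_iff_not_isSquare]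
    rintro ⟨r, hr⟩
    apply ht' ((r - t) / 2)
    field_simp
    linear_combination -hr
  have hh4 := sq_ne_four_of_no_root hh
  obtain ⟨r, hr⟩ : IsSquare ((tr h ^ 2 - 4) * (tr g ^ 2 - 4)) := by
    rw [← quadraticChar_one_iff_isSquare
      (mul_ne_zero (sub_ne_zero.2 hh4) (sub_ne_zero.2 ht)), map_mul, nsq _ hh, nsq _ hg]
    rfl
  have hd : tr g ^ 2 - 4 ≠ 0 := sub_ne_zero.2 ht
  set y := r / (tr g ^ 2 - 4) with hy
  have hy2 : y ^ 2 * (tr g ^ 2 - 4) = tr h ^ 2 - 4 := by
    rw [hy]; field_simp; linear_combination -hr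
  set x := (tr h - tr g * y) / 2 with hx
  have hdet : (x • (1 : Matrix (Fin 2) (Fin 2) F) + y • g.1).det = 1 := by
    rw [det_combination, hx]
    field_simp
    linear_combination -hy2
  let M : SL(2, F) := ⟨x • 1 + y • g.1, hdet⟩
  have hM : M ∈ Subgroup.centralizer ({g} : Set SL(2, F)) :=
    (mem_centralizer_iff (nonScalar_of_sq_ne_four ht) M).2 ⟨x, y, rfl⟩
  have etr : tr h = tr M := by
    simp only [tr, M, Matrix.trace_add, Matrix.trace_smul, Matrix.trace_one, Fintype.card_fin,
      smul_eq_mul]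
    rw [hx]
    push_cast
    field_simp
    ring
  obtain ⟨k, hk⟩ := isConj_iff.1 (isConj_of_trace_eq h M etr hh4)
  exact ⟨k, hk ▸ hM⟩

/-- The centraliser and normaliser of a Sylow `ℓ`-subgroup when a torus contains one. -/
theorem sylow_torus {g : SL(2, F)} (ht : tr g ^ 2 ≠ 4) (h2 : (2 : F) ≠ 0) (ℓ : ℕ) [hℓp : Fact ℓ.Prime]
    (hℓ : ℓ ≠ 2) (hdvd : ℓ ∣ Nat.card (Subgroup.centralizer ({g} : Set SL(2, F)))) (c : ℕ)
    (hc : Nat.card SL(2, F) = Nat.card (Subgroup.centralizer ({g} : Set SL(2, F))) * c)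
    (hℓc : ¬ ℓ ∣ c) (P : Sylow ℓ SL(2, F)) :
    Nat.card (Subgroup.centralizer ((P : Subgroup SL(2, F)) : Set SL(2, F))) =
        Nat.card (Subgroup.centralizer ({g} : Set SL(2, F))) ∧
      IsCyclic (Subgroup.centralizer ((P : Subgroup SL(2, F)) : Set SL(2, F))) ∧
      Nat.card (Subgroup.normalizer ((P : Subgroup SL(2, F)) : Set SL(2, F))) =
        2 * Nat.card (Subgroup.centralizer ({g} : Set SL(2, F))) := by
  classical
  have hℓ' : ℓ.Prime := hℓp.out
  set T := Subgroup.centralizer ({g} : Set SL(2, F)) with hT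
  obtain ⟨Q₀⟩ : Nonempty (Sylow ℓ T) := inferInstance
  set Q : Subgroup SL(2, F) := (Q₀ : Subgroup T).map T.subtype with hQdef
  have hQT : Q ≤ T := Subgroup.map_subtype_le _
  have hQcard : Nat.card Q = ℓ ^ (Nat.card SL(2, F)).factorization ℓ := by
    rw [hQdef, Subgroup.card_map_of_injective T.subtype_injective, Q₀.card_eq_multiplicity, hc,
      Nat.factorization_mul Nat.card_pos.ne' (by rintro rfl; exact hℓc (dvd_zero _))]
    simp [Nat.factorization_eq_zero_of_not_dvd hℓc]
  obtain ⟨k, hk⟩ := MulAction.exists_smul_eq SL(2, F) (Sylow.ofCard Q hQcard) P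
  have hP : (P : Subgroup SL(2, F)) = Q.map (MulAut.conj k).toMonoidHom := by
    rw [← hk, Sylow.coe_subgroup_smul]
    rfl
  have hQ1 : ∃ x ∈ Q, x.1 ≠ 1 ∧ x.1 ≠ -1 := by
    have : ℓ ∣ Nat.card Q := by
      rw [hQdef, Subgroup.card_map_of_injective T.subtype_injective, Q₀.card_eq_multiplicity]
      exact dvd_pow_self _ (hℓ'.factorization_pos_of_dvd Nat.card_pos.ne' hdvd).ne'
    obtain ⟨⟨x, hx⟩, hox⟩ := exists_prime_orderOf_dvd_card' ℓ this
    rw [Subgroup.orderOf_mk] at hox
    refine ⟨x, hx, fun e => ?_, fun e => ?_⟩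
    · rw [show x = 1 from Subtype.ext e, orderOf_one] at hox
      exact hℓ'.one_lt.ne hox
    · have hx2 : x ^ 2 = 1 := by
        apply Subtype.ext
        simp [pow_two, e]
      have := Nat.le_of_dvd two_pos (hox ▸ orderOf_dvd_of_pow_eq_one hx2)
      have := hℓ'.two_le
      omega
  obtain ⟨x, hxQ, hx1, hx2⟩ := hQ1
  have hcQ : Subgroup.centralizer (Q : Set SL(2, F)) = T := by
    apply le_antisymm
    · rw [hT, ← centralizer_eq_of_mem ht (hQT hxQ) hx1 hx2]
      exact Subgroup.centralizer_le (Set.singleton_subset_iff.2 hxQ)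
    · exact fun t htT q hq => centralizer_comm (nonScalar_of_sq_ne_four ht) (hQT hq) htT
  have hnQ : Subgroup.normalizer (Q : Set SL(2, F)) = Subgroup.normalizer (T : Set SL(2, F)) := by
    ext n
    rw [Subgroup.mem_normalizer_iff]
    constructor
    · intro hn
      rw [Subgroup.mem_normalizer_iff, ← hcQ]
      intro M
      simp only [Subgroup.mem_centralizer_iff, SetLike.mem_coe]
      constructor
      · intro hM q hq
        have h := hM (n⁻¹ * q * n) ((hn _).2 (by simpa [mul_assoc] using hq))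
        calc q * (n * M * n⁻¹) = n * (n⁻¹ * q * n * M) * n⁻¹ := by group
          _ = n * (M * (n⁻¹ * q * n)) * n⁻¹ := by rw [h]
          _ = n * M * n⁻¹ * q := by group
      · intro hM q hq
        have h := hM (n * q * n⁻¹) ((hn q).1 hq)
        calc q * M = n⁻¹ * (n * q * n⁻¹ * (n * M * n⁻¹)) * n := by group
          _ = n⁻¹ * (n * M * n⁻¹ * (n * q * n⁻¹)) * n := by rw [h]
          _ = M * q := by group
    · intro hn
      have key : ∀ n ∈ Subgroup.normalizer (T : Set SL(2, F)), ∀ q ∈ Q, n * q * n⁻¹ ∈ Q := by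
        intro n hn q hq
        rcases (mem_normalizer_iff ht).1 hn with e | e
        · have hnT : n ∈ T := Subgroup.mem_centralizer_singleton_iff.2
            (by rwa [mul_inv_eq_iff_eq_mul] at e)
          rw [centralizer_comm (nonScalar_of_sq_ne_four ht) hnT (hQT hq), mul_inv_cancel_right]
          exact hq
        · rw [conj_eq_inv ht e (hQT hq)]
          exact inv_mem hq
      intro q
      refine ⟨key n hn q, fun h => ?_⟩
      have := key n⁻¹ (inv_mem hn) _ h
      simpa [mul_assoc] using this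
  have hinj : Function.Injective (MulAut.conj k).toMonoidHom := (MulAut.conj k).injective
  have hcP : Subgroup.centralizer ((P : Subgroup SL(2, F)) : Set SL(2, F)) =
      T.map (MulAut.conj k).toMonoidHom := by
    rw [← hcQ, hP]
    ext M
    simp only [Subgroup.mem_centralizer_iff, Subgroup.mem_map, Subgroup.coe_map,
      Set.forall_mem_image, SetLike.mem_coe, MulEquiv.coe_toMonoidHom, MulAut.conj_apply]
    constructor
    · intro h
      refine ⟨k⁻¹ * M * k, fun q hq => ?_, by group⟩
      calc q * (k⁻¹ * M * k) = k⁻¹ * (k * q * k⁻¹ * M) * k := by group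
        _ = k⁻¹ * (M * (k * q * k⁻¹)) * k := by rw [h hq]
        _ = k⁻¹ * M * k * q := by group
    · rintro ⟨N, hN, rfl⟩ q hq
      calc k * q * k⁻¹ * (k * N * k⁻¹) = k * (q * N) * k⁻¹ := by group
        _ = k * (N * q) * k⁻¹ := by rw [hN q hq]
        _ = k * N * k⁻¹ * (k * q * k⁻¹) := by group
  refine ⟨?_, ?_, ?_⟩
  · rw [hcP, Subgroup.card_map_of_injective hinj]
  · rw [hcP]
    haveI := isCyclic_centralizer ht
    exact (Subgroup.equivMapOfInjective T _ hinj).isCyclic.1 inferInstance
  · rw [hP, ← Subgroup.map_normalizer_eq_of_bijective _ (MulAut.conj k).bijective,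
      Subgroup.card_map_of_injective hinj, hnQ]
    exact card_normalizer ht

end CfsgLib.SL2Tori
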